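import Groth.Prelude.Def_GrSyz
import Groth.Prelude.Def_GrLC
import Groth.Agent.GrSyzHilb.Basic
import Groth.Agent.S15428

/-!
The degrees in a length two resolution of a finite set of points of the plane.
-/

set_option autoImplicit false
set_option linter.unusedSectionVars false
universe u

open scoped Classical
noncomputable section

namespace Groth.Agent.HBDeg

variable {k : Type u} [Field k]


/-- Homogeneous elements of nonpositive degree in the irrelevant ideal vanish. -/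
lemma eq_zero_of_mem_irrel {n : ℤ} (hn : n ≤ 0) {f : (MvPolynomial (Fin 3) k)} (hf : f ∈ GrSyz.stdGr k (Fin 3) n)
    (hm : f ∈ (GrSyz.irrel (GrSyz.stdGr k (Fin 3))).toIdeal) : f = 0 := by
  have hc : MvPolynomial.constantCoeff f = 0 := by
    refine (Ideal.span_le.2 ?_ : _ ≤ RingHom.ker (MvPolynomial.constantCoeff (R := k) (σ := Fin 3))) hm
    rintro z ⟨j, hj, hz⟩
    rw [SetLike.mem_coe, RingHom.mem_ker, MvPolynomial.constantCoeff_eq]
    by_contra hne
    have := (GrSyz.mem_stdGr_iff k (Fin 3) j z).1 hz hne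
    rw [map_zero] at this
    omega
  refine MvPolynomial.ext _ _ fun d => ?_
  rw [MvPolynomial.coeff_zero]
  by_contra hne
  have h1 := (GrSyz.mem_stdGr_iff k (Fin 3) n f).1 hf hne
  rw [GrSyzHilb.weight_one] at h1
  have h1' : ((∑ l, d l : ℕ) : ℤ) ≤ 0 := h1.trans_le hn
  have h2 : d = 0 := Finsupp.ext fun i => by
    have : d i ≤ ∑ l, d l := Finset.single_le_sum (f := fun l => d l) (fun _ _ => Nat.zero_le _) (Finset.mem_univ i)
    rw [Finsupp.zero_apply]
    omega
  exact hne (by rw [h2, ← MvPolynomial.constantCoeff_eq]; exact hc)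

variable {M : Type u} [AddCommGroup M] [Module k M] [Module (MvPolynomial (Fin 3) k) M] [IsScalarTower k (MvPolynomial (Fin 3) k) M] {ℳ : ℤ → Submodule k M}
  [DirectSum.Decomposition ℳ] [SetLike.GradedSMul (GrSyz.stdGr k (Fin 3)) ℳ]
  (F : GrSyz.FreeRes (GrSyz.stdGr k (Fin 3)) ℳ)

lemma dLin_one_injective (hlen : F.HasLengthLE 2) : Function.Injective (F.dLin 1) := by
  rw [← LinearMap.ker_eq_bot, eq_bot_iff]
  intro v hv
  rw [GrSyz.FreeRes.dLin, F.exact_succ 1] at hv
  obtain ⟨w, rfl⟩ := hv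
  rw [Submodule.mem_bot]
  haveI : IsEmpty (Fin (F.rk (1 + 1 + 1))) := by rw [hlen (1 + 1 + 1) (by omega)]; exact Fin.isEmpty
  rw [show w = 0 from funext fun b => isEmptyElim b, map_zero]

/-- Columns supported on fewer rows than their number contradict injectivity. -/
theorem card_le_card (hlen : F.HasLengthLE 2) (C : Finset (Fin (F.rk (1 + 1)))) (W : Finset (Fin (F.rk 1)))
    (hzero : ∀ b ∈ C, ∀ a, a ∉ W → F.d 1 a b = 0) :
    C.card ≤ W.card ∧ (C.card = W.card → ∀ g : Fin (F.rk 1) → (MvPolynomial (Fin 3) k), Matrix.vecMul g (F.d 1) = 0 → ∀ a ∈ W, g a = 0) := by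
  let B : Matrix W C (MvPolynomial (Fin 3) k) := fun a b => F.d 1 a b
  have hBinj : Function.Injective (Matrix.mulVecLin B) := by
    refine (injective_iff_map_eq_zero _).2 fun x hx => ?_
    let y : Fin (F.rk (1 + 1)) → (MvPolynomial (Fin 3) k) := fun b => if h : b ∈ C then x ⟨b, h⟩ else 0
    have hsum : ∀ a, F.dLin 1 y a = ∑ b : C, F.d 1 a b * x b := by
      intro a
      rw [Matrix.mulVecLin_apply, Matrix.mulVec, dotProduct, ← Finset.sum_subset (Finset.subset_univ C)
        (fun b _ hb => by simp only [y, dif_neg hb, mul_zero]), ← Finset.sum_coe_sort]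
      exact Finset.sum_congr rfl fun b _ => by simp only [y, dif_pos b.2, Subtype.coe_eta]
    have hy : y = 0 := dLin_one_injective F hlen (by
      funext a
      rw [map_zero, hsum]
      by_cases ha : a ∈ W
      · exact congrFun hx ⟨a, ha⟩
      · exact Finset.sum_eq_zero fun b _ => by rw [hzero b b.2 a ha, zero_mul])
    funext b
    have := congrFun hy b
    simpa only [y, dif_pos b.2, Subtype.coe_eta, Pi.zero_apply] using this
  refine ⟨by simpa using card_le_of_injective (MvPolynomial (Fin 3) k) (Matrix.mulVecLin B) hBinj, fun hcard g hg a ha => ?_⟩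
  let e : C ≃ W := Finset.equivOfCardEq hcard
  let B' : Matrix C C (MvPolynomial (Fin 3) k) := fun a b => B (e a) b
  have hdet : B'.det ≠ 0 := by
    intro h0
    obtain ⟨v, hv, hv'⟩ := Matrix.exists_mulVec_eq_zero_iff.2 h0
    refine hv (hBinj ?_)
    rw [map_zero]
    funext a'
    have := congrFun hv' (e.symm a')
    simpa [B', Matrix.mulVec, dotProduct] using this
  have hgB : Matrix.vecMul (fun a' : C => g (e a')) B' = 0 := by
    funext b
    have h1 : ∑ a, g a * F.d 1 a b = 0 := congrFun hg (b : Fin (F.rk (1 + 1)))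
    rw [← Finset.sum_subset (Finset.subset_univ W) (fun a _ ha => by rw [hzero b b.2 a ha, mul_zero]),
      ← Finset.sum_coe_sort] at h1
    rw [Matrix.vecMul, dotProduct, Pi.zero_apply, ← h1]
    exact e.sum_comp fun a' : W => g a' * F.d 1 a' b
  have h2 : (fun a' : C => g (e a')) = 0 := by
    by_contra hne
    exact hdet (Matrix.exists_vecMul_eq_zero_iff.1 ⟨_, hne, hgB⟩)
  simpa using congrFun h2 (e.symm ⟨a, ha⟩)

/-- No column of the first matrix of a minimal resolution vanishes. -/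
lemma exists_ne_zero (hF : F.IsMinimal (GrSyz.irrel (GrSyz.stdGr k (Fin 3))).toIdeal) (a : Fin (F.rk (0 + 1))) :
    ∃ c, F.d 0 c a ≠ 0 := by
  by_contra h
  push Not at h
  have h1 : F.dLin 0 (Pi.single a 1) = 0 := by
    funext c
    simp [h c]
  have h2 : (Pi.single a 1 : Fin (F.rk (0 + 1)) → (MvPolynomial (Fin 3) k)) ∈ LinearMap.range (F.dLin (0 + 1)) := by
    rw [GrSyz.FreeRes.dLin, ← F.exact_succ 0]
    exact h1
  obtain ⟨w, hw⟩ := h2
  have h3 : (1 : (MvPolynomial (Fin 3) k)) ∈ (GrSyz.irrel (GrSyz.stdGr k (Fin 3))).toIdeal := by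
    rw [← show F.dLin (0 + 1) w a = 1 by rw [hw, Pi.single_eq_same], Matrix.mulVecLin_apply, Matrix.mulVec, dotProduct]
    exact Ideal.sum_mem _ fun b _ => Ideal.mul_mem_right _ _ (hF (0 + 1) a b)
  exact one_ne_zero (eq_zero_of_mem_irrel le_rfl (SetLike.one_mem_graded (GrSyz.stdGr k (Fin 3))) h3)

/-- The degree inequalities. -/
theorem deg_gaps (hF : F.IsMinimal (GrSyz.irrel (GrSyz.stdGr k (Fin 3))).toIdeal) (hlen : F.HasLengthLE 2) (t : ℕ)
    (h1 : F.rk 1 = t + 1) (h2 : F.rk 2 = t)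
    (ha : ∀ i j : Fin (t + 1), i ≤ j → F.deg 1 (Fin.cast h1.symm j) ≤ F.deg 1 (Fin.cast h1.symm i))
    (hb : ∀ i j : Fin t, i ≤ j → F.deg 2 (Fin.cast h2.symm j) ≤ F.deg 2 (Fin.cast h2.symm i)) (i : Fin t) :
    1 ≤ F.deg 2 (Fin.cast h2.symm i) - F.deg 1 (Fin.cast h1.symm i.castSucc) ∧
      1 ≤ F.deg 2 (Fin.cast h2.symm i) - F.deg 1 (Fin.cast h1.symm i.succ) := by
  let eC : Fin t ≃ Fin (F.rk (1 + 1)) := finCongr h2.symm
  let eW : Fin (t + 1) ≃ Fin (F.rk 1) := finCongr h1.symm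
  let C : Finset (Fin (F.rk (1 + 1))) := (Finset.Ici i).map eC.toEmbedding
  have hC : C.card = t - i := by rw [Finset.card_map, Fin.card_Ici]
  have hzero : ∀ l : Fin (t + 1), F.deg 2 (Fin.cast h2.symm i) ≤ F.deg 1 (Fin.cast h1.symm l) →
      ∀ b ∈ C, ∀ a, a ∉ (Finset.Ioi l).map eW.toEmbedding → F.d 1 a b = 0 := by
    intro l hl b hb' a ha'
    obtain ⟨j, hj, rfl⟩ := Finset.mem_map.1 hb'
    obtain ⟨a, rfl⟩ := eW.surjective a
    have hal : a ≤ l := le_of_not_gt fun h => ha' (Finset.mem_map_of_mem _ (Finset.mem_Ioi.2 h))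
    have e1 := ha a l hal
    have e2 := hb i j (Finset.mem_Ici.1 hj)
    refine eq_zero_of_mem_irrel ?_ (F.d_mem 1 _ _) (hF 1 _ _)
    show F.deg 2 (Fin.cast h2.symm j) - F.deg 1 (Fin.cast h1.symm a) ≤ 0
    omega
  constructor
  · by_contra hlt
    obtain ⟨-, h⟩ := card_le_card F hlen C _ (hzero i.castSucc (by omega))
    rw [hC, Finset.card_map, Fin.card_Ioi, Fin.val_castSucc] at h
    obtain ⟨c, hc⟩ := exists_ne_zero F hF (eW (Fin.last t))
    refine hc (h (by omega) (fun a => F.d 0 c a) ?_ _ (Finset.mem_map_of_mem _ (Finset.mem_Ioi.2 (Fin.castSucc_lt_last i))))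
    funext b
    have h3 : F.dLin 0 (F.dLin (0 + 1) (Pi.single b 1)) = 0 := by
      have := LinearMap.mem_range_self (F.dLin (0 + 1)) (Pi.single b 1)
      rw [GrSyz.FreeRes.dLin, ← F.exact_succ 0] at this
      exact this
    have h4 := congrFun h3 c
    simpa [Matrix.mulVec, dotProduct, Matrix.vecMul] using h4
  · by_contra hlt
    obtain ⟨h, -⟩ := card_le_card F hlen C _ (hzero i.succ (by omega))
    rw [hC, Finset.card_map, Fin.card_Ioi, Fin.val_succ] at h
    have := i.2
    omega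

/-- A degree piece of the coordinate ring of finitely many points. -/
theorem finrank_piece_le (Z : Finset (Fin 3 → k)) (I : Ideal (MvPolynomial (Fin 3) k))
    (hI : ∀ f : (MvPolynomial (Fin 3) k), f ∈ I ↔ ∀ p ∈ Z, ∀ j : ℕ, MvPolynomial.eval p (MvPolynomial.homogeneousComponent j f) = 0)
    (π : (MvPolynomial (Fin 3) k) →ₗ[(MvPolynomial (Fin 3) k)] M) (hπ : Function.Surjective π) (hπg : GrLC.IsGrHom (GrSyz.stdGr k (Fin 3)) ℳ π)
    (hker : LinearMap.ker π = I) (d : ℤ) : Module.finrank k (ℳ d) ≤ Z.card := by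
  let S := GrSyz.stdGr k (Fin 3) d
  let E : S →ₗ[k] (Z → k) :=
    { toFun := fun f p => MvPolynomial.eval (p : Fin 3 → k) (f : (MvPolynomial (Fin 3) k))
      map_add' := fun f g => funext fun p => map_add _ _ _
      map_smul' := fun c f => funext fun p => MvPolynomial.smul_eval _ _ _ }
  let P : S →ₗ[k] ℳ d := ((π.restrictScalars k).comp S.subtype).codRestrict (ℳ d) fun f => hπg d f f.2
  have hP : Function.Surjective P := fun y => by
    obtain ⟨f, hf⟩ := hπ (y : M)
    refine ⟨⟨GrSyzHilb.comp (GrSyz.stdGr k (Fin 3)) d f, GrSyzHilb.comp_mem (GrSyz.stdGr k (Fin 3)) d f⟩, Subtype.ext ?_⟩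
    show π (GrSyzHilb.comp (GrSyz.stdGr k (Fin 3)) d f) = (y : M)
    rw [← GrSyzHilb.comp_of_mem ℳ y.2, ← hf]
    clear hf
    induction f using DirectSum.Decomposition.inductionOn (GrSyz.stdGr k (Fin 3)) with
    | zero => simp
    | @homogeneous e q =>
      rcases eq_or_ne e d with rfl | hne
      · rw [GrSyzHilb.comp_of_mem _ q.2, GrSyzHilb.comp_of_mem ℳ (hπg e q q.2)]
      · rw [GrSyzHilb.comp_of_mem_ne _ q.2 hne, GrSyzHilb.comp_of_mem_ne ℳ (hπg e q q.2) hne, map_zero]
    | add a b ha hb => simp only [map_add, ha, hb]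
  have hle : LinearMap.ker E ≤ LinearMap.ker P := fun f hf => by
    refine Subtype.ext ?_
    show π (f : (MvPolynomial (Fin 3) k)) = 0
    rw [← LinearMap.mem_ker, hker, hI]
    intro p hp j
    rcases lt_or_ge d 0 with hd | hd
    · have : (f : (MvPolynomial (Fin 3) k)) = 0 := by
        by_contra hne
        obtain ⟨m, hm⟩ := MvPolynomial.ne_zero_iff.1 hne
        have := (GrSyz.mem_stdGr_iff k (Fin 3) d _).1 f.2 hm
        rw [GrSyzHilb.weight_one] at this
        omega
      rw [this, map_zero, map_zero]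
    obtain ⟨n, hn⟩ := Int.eq_ofNat_of_zero_le hd
    have hh : (f : (MvPolynomial (Fin 3) k)).IsHomogeneous n := fun m hm => by
      have h1 := (GrSyz.mem_stdGr_iff k (Fin 3) d _).1 f.2 hm
      rw [GrSyzHilb.weight_one, hn] at h1
      rw [Finsupp.weight_apply, Finsupp.sum_fintype _ _ (fun i => by simp)]
      simp only [Pi.one_apply, smul_eq_mul, mul_one]
      exact_mod_cast h1
    rcases eq_or_ne j n with rfl | hne
    · rw [MvPolynomial.homogeneousComponent_of_mem hh, if_pos rfl]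
      exact congrFun (show E f = 0 from hf) ⟨p, hp⟩
    · rw [MvPolynomial.homogeneousComponent_of_mem hh, if_neg hne, map_zero]
  haveI : Module.Finite k S := GrSyzHilb.finite_stdGr k 2 d
  have e1 := LinearMap.finrank_range_add_finrank_ker E
  have e2 := LinearMap.finrank_range_add_finrank_ker P
  rw [LinearMap.range_eq_top.2 hP, finrank_top] at e2
  have e3 := Submodule.finrank_mono hle
  have e4 := Submodule.finrank_le (LinearMap.range E)
  rw [Module.finrank_pi, Fintype.card_coe] at e4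
  omega

/-- A bounded quadratic sequence is constant. -/
lemma quad_bounded {A B C L : ℤ} {D : ℤ} (h : ∀ d, D ≤ d → 0 ≤ A * d ^ 2 + B * d + C ∧ A * d ^ 2 + B * d + C ≤ L) :
    A = 0 ∧ B = 0 := by
  set n := 2 * L + 1 with hn
  obtain ⟨a0, a1⟩ := h D le_rfl
  have hn0 : 0 < n := by omega
  obtain ⟨b0, b1⟩ := h (D + n) (by omega)
  obtain ⟨c0, c1⟩ := h (D + 2 * n) (by omega)
  have hA : A = 0 := by
    have e : (A * D ^ 2 + B * D + C) + (A * (D + 2 * n) ^ 2 + B * (D + 2 * n) + C) -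
        2 * (A * (D + n) ^ 2 + B * (D + n) + C) = 2 * A * n ^ 2 := by ring
    have hn2 : n ≤ n ^ 2 := by nlinarith
    by_contra hne
    rcases lt_or_gt_of_ne hne with hA | hA
    · nlinarith
    · nlinarith
  subst hA
  refine ⟨rfl, ?_⟩
  by_contra hne
  rcases lt_or_gt_of_ne hne with hB | hB
  · nlinarith
  · nlinarith

lemma choose_two (x : ℕ) : 2 * ((Nat.choose (2 + x) 2 : ℕ) : ℤ) = ((x : ℤ) + 2) * ((x : ℤ) + 1) := by
  induction x with
  | zero => simp
  | succ n ih =>
    rw [show 2 + (n + 1) = (2 + n) + 1 by omega, Nat.choose_succ_succ, Nat.choose_one_right]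
    push_cast
    linarith

/-- The degree sums. -/
theorem sum_deg (Z : Finset (Fin 3 → k)) (hZne : Z.Nonempty) (I : Ideal (MvPolynomial (Fin 3) k))
    (hI : ∀ f : (MvPolynomial (Fin 3) k), f ∈ I ↔ ∀ p ∈ Z, ∀ j : ℕ, MvPolynomial.eval p (MvPolynomial.homogeneousComponent j f) = 0)
    (π : (MvPolynomial (Fin 3) k) →ₗ[(MvPolynomial (Fin 3) k)] M) (hπ : Function.Surjective π) (hπg : GrLC.IsGrHom (GrSyz.stdGr k (Fin 3)) ℳ π)
    (hker : LinearMap.ker π = I) (hlen : F.HasLengthLE 2) (h12 : F.rk 1 = F.rk 2 + 1) :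
    ∑ b, F.deg 1 b = ∑ b, F.deg 2 b := by
  haveI : Module.Finite (MvPolynomial (Fin 3) k) M := Module.Finite.of_surjective π hπ
  have key : ∀ d : ℤ, (∀ (i : ℕ) (b : Fin (F.rk i)), i ≤ 2 → F.deg i b ≤ d) →
      2 * (Module.finrank k (ℳ d) : ℤ) = ∑ b, (d - F.deg 0 b + 2) * (d - F.deg 0 b + 1) -
        ∑ b, (d - F.deg 1 b + 2) * (d - F.deg 1 b + 1) + ∑ b, (d - F.deg 2 b + 2) * (d - F.deg 2 b + 1) := by
    intro d hd
    have := S15428.result k 2 M ℳ F 2 hlen d
    have hterm : ∀ i ≤ 2, 2 * ∑ b : Fin (F.rk i), (if F.deg i b ≤ d then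
        ((Nat.choose (2 + (d - F.deg i b).toNat) 2 : ℕ) : ℤ) else 0) =
          ∑ b, (d - F.deg i b + 2) * (d - F.deg i b + 1) := by
      intro i hi
      rw [Finset.mul_sum]
      refine Finset.sum_congr rfl fun b _ => ?_
      rw [if_pos (hd i b hi), choose_two, Int.toNat_of_nonneg (by have := hd i b hi; omega)]
    rw [this, Finset.sum_range_succ, Finset.sum_range_succ, Finset.sum_range_one,
      ← hterm 0 (by omega), ← hterm 1 (by omega), ← hterm 2 le_rfl]
    ring
  obtain ⟨D, hD⟩ : ∃ D : ℤ, ∀ (i : ℕ) (b : Fin (F.rk i)), i ≤ 2 → F.deg i b ≤ D := by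
    refine ⟨∑ i ∈ Finset.range 3, ∑ b : Fin (F.rk i), |F.deg i b|, fun i b hi => (le_abs_self _).trans ?_⟩
    exact (Finset.single_le_sum (f := fun b : Fin (F.rk i) => |F.deg i b|) (fun _ _ => abs_nonneg _) (Finset.mem_univ b)).trans
      (Finset.single_le_sum (f := fun i => ∑ b : Fin (F.rk i), |F.deg i b|)
        (fun _ _ => Finset.sum_nonneg fun _ _ => abs_nonneg _) (Finset.mem_range.2 (by omega)))
  have hexp : ∀ (m : ℕ) (f : Fin m → ℤ) (d : ℤ), ∑ b, (d - f b + 2) * (d - f b + 1) =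
      (m : ℤ) * d ^ 2 + (3 * (m : ℤ) - 2 * ∑ b, f b) * d + ∑ b, (2 - f b) * (1 - f b) := by
    intro m f d
    induction m with
    | zero => simp
    | succ m ih =>
      simp only [Fin.sum_univ_succ]
      rw [ih]
      push_cast
      ring
  obtain ⟨hA, hB⟩ := quad_bounded (A := (F.rk 0 : ℤ) - F.rk 1 + F.rk 2)
    (B := (3 * (F.rk 0 : ℤ) - 2 * ∑ b, F.deg 0 b) - (3 * (F.rk 1 : ℤ) - 2 * ∑ b, F.deg 1 b) +
      (3 * (F.rk 2 : ℤ) - 2 * ∑ b, F.deg 2 b))
    (C := ∑ b, (2 - F.deg 0 b) * (1 - F.deg 0 b) - ∑ b, (2 - F.deg 1 b) * (1 - F.deg 1 b) +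
      ∑ b, (2 - F.deg 2 b) * (1 - F.deg 2 b)) (L := 2 * (Z.card : ℤ)) (D := D) fun d hd => by
    have h := key d fun i b hi => (hD i b hi).trans hd
    rw [hexp, hexp, hexp] at h
    have hle := finrank_piece_le Z I hI π hπ hπg hker d
    have e : (2 : ℤ) * (Module.finrank k (ℳ d) : ℤ) = ((F.rk 0 : ℤ) - F.rk 1 + F.rk 2) * d ^ 2 +
        ((3 * (F.rk 0 : ℤ) - 2 * ∑ b, F.deg 0 b) - (3 * (F.rk 1 : ℤ) - 2 * ∑ b, F.deg 1 b) +
          (3 * (F.rk 2 : ℤ) - 2 * ∑ b, F.deg 2 b)) * d +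
        (∑ b, (2 - F.deg 0 b) * (1 - F.deg 0 b) - ∑ b, (2 - F.deg 1 b) * (1 - F.deg 1 b) +
          ∑ b, (2 - F.deg 2 b) * (1 - F.deg 2 b)) := by rw [h]; ring
    constructor <;> omega
  have hr0 : F.rk 0 = 1 := by omega
  obtain ⟨b₀, hb₀⟩ : ∃ b₀ : Fin (F.rk 0), ∀ b, b = b₀ :=
    ⟨Fin.cast hr0.symm 0, fun b => Fin.ext (by have := b.2; simp; omega)⟩
  have hsum : ∑ b, F.deg 0 b = F.deg 0 b₀ :=
    Finset.sum_eq_single b₀ (fun b _ h => absurd (hb₀ b) h) fun h => absurd (Finset.mem_univ _) h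
  have hone : π 1 ≠ 0 := fun h => by
    obtain ⟨p, hp⟩ := hZne
    have h1 := (hI 1).1 (by rw [← hker]; exact h) p hp 0
    rw [MvPolynomial.homogeneousComponent_zero] at h1
    simp at h1
  obtain ⟨c, hc⟩ := F.aug_surjective (π 1)
  rw [Fintype.linearCombination_apply,
    Finset.sum_eq_single b₀ (fun b _ h => absurd (hb₀ b) h) fun h => absurd (Finset.mem_univ _) h] at hc
  have hπ1 : π 1 ∈ ℳ 0 := hπg 0 1 (SetLike.one_mem_graded (GrSyz.stdGr k (Fin 3)))
  have hdeg : F.deg 0 b₀ = 0 := by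
    rcases lt_trichotomy (F.deg 0 b₀) 0 with hlt | heq | hgt
    · exfalso
      refine hone ?_
      obtain ⟨f, hf⟩ := hπ (F.aug b₀)
      have : F.aug b₀ = 0 := by
        rw [← GrSyzHilb.comp_of_mem ℳ (F.aug_mem b₀), ← hf]
        clear hf
        induction f using DirectSum.Decomposition.inductionOn (GrSyz.stdGr k (Fin 3)) with
        | zero => simp
        | @homogeneous e q =>
          rcases eq_or_ne e (F.deg 0 b₀) with rfl | hne
          · have hq : (q : (MvPolynomial (Fin 3) k)) = 0 := by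
              by_contra hne'
              obtain ⟨m, hm⟩ := MvPolynomial.ne_zero_iff.1 hne'
              have := (GrSyz.mem_stdGr_iff k (Fin 3) _ _).1 q.2 hm
              rw [GrSyzHilb.weight_one] at this
              omega
            rw [hq, map_zero, map_zero]
          · rw [GrSyzHilb.comp_of_mem_ne ℳ (hπg e q q.2) hne]
        | add a b ha hb => simp only [map_add, ha, hb, add_zero]
      rw [← hc, this, smul_zero]
    · exact heq
    · exfalso
      refine hone ?_
      rw [← GrSyzHilb.comp_of_mem ℳ hπ1, ← hc]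
      clear hc
      induction c b₀ using DirectSum.Decomposition.inductionOn (GrSyz.stdGr k (Fin 3)) with
      | zero => simp
      | @homogeneous e q =>
        rcases lt_or_ge e 0 with he | he
        · have hq : (q : (MvPolynomial (Fin 3) k)) = 0 := by
            by_contra hne'
            obtain ⟨m, hm⟩ := MvPolynomial.ne_zero_iff.1 hne'
            have := (GrSyz.mem_stdGr_iff k (Fin 3) _ _).1 q.2 hm
            rw [GrSyzHilb.weight_one] at this
            omega
          rw [hq, zero_smul, map_zero]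
        · exact GrSyzHilb.comp_of_mem_ne ℳ (SetLike.GradedSMul.smul_mem (B := ℳ) q.2 (F.aug_mem b₀))
            (by rw [vadd_eq_add]; omega)
      | add a b ha hb => rw [add_smul, map_add, ha, hb, add_zero]
  rw [hsum, hdeg, hr0] at hB
  have h12' : (F.rk 1 : ℤ) = F.rk 2 + 1 := by exact_mod_cast h12
  push_cast at hB
  omega

end Groth.Agent.HBDeg
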